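import Cfsg.Agent.Lib.SCl.Red
import Cfsg.Agent.Lib.Amalg.Bridge

/-! Perfect subgroups centralizing a strongly closed subgroup: the local analysis. -/

set_option autoImplicit false
set_option linter.unusedSectionVars false

namespace Cfsg.Lib.SCl
open Subgroup Cfsg.Lib.Core Cfsg.Lib.BG1 Cfsg.Lib.Invol Cfsg.Lib.Layer Cfsg.Lib.Gold
open Cfsg.Lib.Amalg hiding le_cent_symm op_top
open Cfsg.Lib.GW hiding Ctx
open scoped Cfsg.Lib.Wal
open QuotientGroup (mk' mk'_surjective ker_mk')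

universe u

variable {G : Type u} [Group G] [Finite G] {C : Set G} {S D H K L M N R T T' U V V' W X Y : Subgroup G} {g x y : G}

/-- the largest perfect subgroup -/
def pf (H : Subgroup G) : Subgroup G := sSup {L | L ≤ H ∧ ⁅L, L⁆ = L}

theorem pf_le (H : Subgroup G) : pf H ≤ H := sSup_le fun _ h => h.1
theorem le_pf (h : L ≤ H) (hL : ⁅L, L⁆ = L) : L ≤ pf H := le_sSup ⟨h, hL⟩
theorem pf_perf (H : Subgroup G) : ⁅pf H, pf H⁆ = pf H :=
  (comm_le_left le_normalizer).antisymm (sSup_le fun _ h => h.2.ge.trans (commutator_mono (le_pf h.1 h.2) (le_pf h.1 h.2)))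
theorem pf_mono (h : H ≤ K) : pf H ≤ pf K := le_pf ((pf_le H).trans h) (pf_perf H)
theorem cj_pf_le (g : G) (H : Subgroup G) : cj g (pf H) ≤ pf (cj g H) :=
  le_pf (cj_mono g (pf_le H)) (by rw [← cj_commutator, pf_perf])
theorem norm_pf (h : X ≤ 𝐍(H)) : X ≤ 𝐍(pf H) := fun g hg =>
  mem_normalizer_of_cj_le ((cj_pf_le g H).trans (pf_mono (cj_of_mem_normalizer (h hg)).le))
theorem pf_eq_bot (h : Group.IsSolvable H) : pf H = ⊥ := eq_bot_of_perfect_of_le_solvable (pf_perf H) (pf_le H) h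

theorem le_sup_pf (hL : ⁅L, L⁆ = L) (hn : Y ≤ 𝐍(X)) (h : L ≤ X ⊔ Y) : L ≤ X ⊔ pf Y := by
  induction Y using WellFoundedLT.induction with | _ Y ih =>
  rcases (comm_le_left (le_normalizer (H := Y))).eq_or_lt with e | e
  · exact h.trans (sup_le_sup_left (le_pf le_rfl e) _)
  have h1 : X ≤ 𝐍(X ⊔ ⁅Y, Y⁆) := le_sup_left.trans le_normalizer
  have h2 : Y ≤ 𝐍(X ⊔ ⁅Y, Y⁆) := le_normalizer_sup hn (le_norm_commutator_left _ _)
  exact (ih _ e (e.le.trans hn) (hL.ge.trans ((commutator_mono h h).trans (comm_sup_le ((comm_le_left (sup_le le_normalizer hn)).trans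
    le_sup_left) (comm_sup_le' ((comm_le_right hn).trans le_sup_left) le_sup_right h1 h2) h1 h2)))).trans (sup_le_sup_left (pf_mono e.le) _)

theorem le_of_sup_solv (hL : ⁅L, L⁆ = L) (hn : Y ≤ 𝐍(X)) (h : L ≤ X ⊔ Y) (hY : Group.IsSolvable Y) : L ≤ X := by
  simpa [pf_eq_bot hY] using le_sup_pf hL hn h

theorem perf_eq_bot (hR : Syl 2 R H) (hL : ⁅L, L⁆ = L) (h1 : L ≤ H) (h2 : L ≤ 𝐂(R)) : L = ⊥ := by
  have := fact_two
  obtain ⟨U, hU⟩ := exists_syl 2 L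
  have h3 := hR.le_of_le_normalizer' hU.isPGroup (hU.le.trans h1) (hU.le.trans (h2.trans (cent_le_norm _)))
  have h4 := (hU.sylowIn.pnil_of_normalizer_le_centralizer (inf_le_left.trans (h2.trans (centralizer_le h3)))).coprime
  exact eq_bot_of_perfect_of_le_solvable hL (le_of_sup_solv hL (hU.le.trans (Transfer.le_normalizer_resOf L))
    hU.sylowIn.resOf_sup.ge (solvable_of_pgroup Nat.prime_two hU.isPGroup)) (solvable_of_odd (Nat.coprime_two_right.1 h4))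

theorem perf_le_of_two [X.Normal] (hL : ⁅L, L⁆ = L) (h : ∀ x ∈ L, Two x → x ∈ X) : L ≤ X := by
  have := fact_two
  obtain ⟨U, hU⟩ := exists_syl 2 L
  rw [← map_mk'_eq_bot_iff]
  exact eq_bot_of_perfect_of_le_solvable (by rw [← map_commutator, hL]) le_rfl (solvable_of_odd (odd_of_not_two_dvd
    ((hU.map (mk' X)).eq_bot_iff.1 ((map_mk'_eq_bot_iff _ _).2 fun x hx => h x (hU.le hx) (Two.of_mem hU.isPGroup hx)))))

theorem mem_of_two_sup [M.Normal] (hY : Odd (Nat.card Y)) (hx : Two x) (h : x ∈ M ⊔ Y) : x ∈ M := by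
  have := mem_map_of_mem (mk' M) h
  rw [Subgroup.map_sup, QuotientGroup.map_mk'_self, bot_sup_eq] at this
  exact (QuotientGroup.eq_one_iff x).1 ((hx.map (mk' M)).eq_one (odd_of_mem (hY.of_dvd_nat (card_map_dvd _ _)) this))

theorem inf_le_core' (hX : X ≤ H) (hn : H ≤ 𝐍(X)) (e : X ≤ 𝐎₀(H) ⊔ M) (hM : M ≤ H) (hY : Odd (Nat.card Y)) (h1 : Y ≤ H)
    (h2 : M ≤ 𝐍(Y)) : Y ⊓ X ≤ 𝐎₀(H) :=
  (inf_le_inf_right _ le_sup_right).trans (inf_le_core hX hn (odd_sup (odd_core H) hY (nO h1))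
    (e.trans (sup_le (le_sup_left.trans le_normalizer) (le_normalizer_sup (nO hM) h2))))

theorem core_norm_le (hV : IsPGroup 2 V) : 𝐎₀(𝐍(V)) ≤ 𝐂(V) :=
  commutator_eq_bot_iff_le_centralizer.1 (le_bot_iff.1 ((le_inf (comm_le_right (piCoreOf_le' _ _)) (comm_le_left (nO le_normalizer))).trans
    (disjoint_of_coprime_natCard (cop_pgroup hV (odd_core _))).le_bot))

/-- a 2-subgroup inside `C` -/
structure CS (C : Set G) (D : Subgroup G) : Prop where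
  pg : IsPGroup 2 D
  mem : ∀ x ∈ D, x ∈ C

/-- a maximal 2-subgroup of `H` inside `C` -/
structure MX (C : Set G) (V H : Subgroup G) : Prop extends CS C V where
  le : V ≤ H
  cn : ∀ D, CS C D → D ≤ H → ∃ g ∈ H, cj g D ≤ V

theorem CS.mono (h : CS C D) (h1 : U ≤ D) : CS C U := ⟨h.pg.to_le h1, fun x hx => h.mem x (h1 hx)⟩

theorem MX.le_of (h : MX C V H) (hD : CS C D) (h1 : D ≤ H) (h2 : V ≤ D) : D ≤ V :=
  let ⟨g, _, e⟩ := h.cn D hD h1
  (eq_of_le_of_card_ge h2 ((card_cj g D).ge.trans (card_le_of_le e))).ge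

theorem MX.eq_of_le (h : MX C V H) (h' : MX C V' H) (e : V ≤ V') : V = V' := e.antisymm (h.le_of h'.toCS h'.le e)

namespace SC
variable (c : SC C)
include c

theorem cs (hU : IsPGroup 2 U) : CS C (KK C U) := ⟨hU.to_le (KK_le C U), fun _ => c.mem_of_KK hU⟩

theorem cs_cj (h : CS C D) (g : G) : CS C (cj g D) := ⟨isPGroup_cj g h.pg, fun x hx => c.conj' (g := g⁻¹) (by simpa using h.mem _ (mem_cj.1 hx))⟩

theorem mx (hU : Syl 2 U H) : MX C (KK C U) H := ⟨c.cs hU.isPGroup, (KK_le C U).trans hU.le, fun _ hD h =>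
  let ⟨g, h1, h2⟩ := hU.exists_conj_le hD.pg h
  ⟨g, h1, le_KK (c.cs_cj hD g).mem h2⟩⟩

theorem exists_mx (hD : CS C D) (h : D ≤ H) : ∃ V, MX C V H ∧ D ≤ V :=
  let ⟨_, hU, h1⟩ := exists_syl_ge hD.pg h
  ⟨_, c.mx hU, le_KK hD.mem h1⟩

theorem mx_of_le (h : MX C V H) (h1 : V ≤ K) (h2 : K ≤ H) : MX C V K :=
  let ⟨_, h3, h4⟩ := c.exists_mx h.toCS h1
  h4.antisymm (h.le_of h3.toCS (h3.le.trans h2) h4) ▸ h3

theorem mx_cj (h : MX C V ⊤) (g : G) : MX C (cj g V) ⊤ := ⟨c.cs_cj h.toCS g, le_top, fun D hD _ =>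
  let ⟨k, _, e⟩ := h.cn D hD le_top
  ⟨g * k, trivial, cj_mul g k D ▸ cj_mono g e⟩⟩

theorem mem_of_norm (h : MX C V H) (hx : x ∈ C) (h1 : x ∈ H) (h2 : x ∈ 𝐍(V)) : x ∈ V :=
  have h3 := isPGroup_sup_of_le_normalizer' h.pg (c.two x hx).isPGroup (zpowers_le.2 h2)
  h.le_of (c.cs h3) ((KK_le _ _).trans (sup_le h.le (zpowers_le.2 h1))) (le_KK h.mem le_sup_left)
    (mem_KK hx (mem_sup_right (mem_zpowers x)))

theorem KK_map_le {Q : Type*} [Group Q] [Finite Q] (f : G →* Q) (hS : Syl 2 S ⊤) : KK (f '' C) (S.map f) ≤ (KK C S).map f :=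
  KK_le_iff.2 (by
    rintro _ ⟨x, hx, rfl⟩ h
    obtain ⟨m, m1, m2⟩ := (hS.of_le (le_comap_map f S) le_top).exists_conj_le (c.two x hx).isPGroup (zpowers_le.2 h)
    obtain ⟨w, w1, e⟩ := m1
    refine ⟨_, mem_KK (c.conj x hx (w⁻¹ * m)) ?_, map_ker_conj (by rw [MonoidHom.mem_ker, map_mul, map_inv, e, inv_mul_cancel]) x⟩
    convert mul_mem (mul_mem (inv_mem w1) (m2 (conj_mem_cj m (mem_zpowers x)))) w1 using 1
    group)

theorem r0 (hO : pPrimeCore 2 G = ⊥) [V.Normal] [M.Normal] (hV : CS C V) (hM : ⁅M, M⁆ = M) (h1 : M ≤ 𝐂(V))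
    (h2 : ∀ x ∈ C, x ∈ M → x ∈ V) : ⁅M, KK C ⊤⁆ = ⊥ := by
  have f1 := mk'_surjective V
  have f2 := mk'_surjective (pPrimeCore 2 (G ⧸ V))
  have := Normal.map ‹M.Normal› _ f1
  have := Normal.map this _ f2
  refine commutator_eq_bot_of_le_centralizer hM ((le_inf ?_ ((commutator_le_left _ _).trans h1)).trans
    ((core_comap_cent hO hV.pg).trans (le_cent_symm h1)))
  rw [← map_le_iff_le_comap, ← map_mk'_eq_bot_iff, map_commutator, map_commutator, KK_map, KK_map, commutator_comm,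
    commutator_eq_bot_iff_le_centralizer]
  refine KK_le_iff.2 fun y hy _ => ((c.map f1).map f2).cent_of_disj _ (core_of_normal pPrimeCore_quotient_pPrimeCore _) ?_ hy
  rintro _ ⟨_, ⟨x, hx, rfl⟩, rfl⟩ h
  rw [← mem_comap, comap_map_eq, ker_mk'] at h
  have h := mem_of_two_sup (odd_card_oddCore _) ((c.two x hx).map _) h
  rw [← mem_comap, comap_map_eq, ker_mk', sup_comm, mem_sup_of_normal_left] at h
  obtain ⟨v, hv, m, hm, rfl⟩ := h
  have := c.mul_comm' (c.inv (hV.mem v hv)) hx ((Commute.refl v).mul_right (mem_centS.1 (h1 hm) v hv).symm).inv_left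
  rw [inv_mul_cancel_left] at this
  rw [show mk' V (v * m) = 1 from (QuotientGroup.eq_one_iff _).2 (mul_mem hv (h2 m this hm)), map_one]

theorem r1 [V.Normal] [M.Normal] (hV : CS C V) (hM : ⁅M, M⁆ = M) (h1 : M ≤ 𝐂(V)) (h2 : ∀ x ∈ C, x ∈ M → x ∈ V) :
    ⁅M, KK C ⊤⁆ ≤ pPrimeCore 2 G := by
  have f := mk'_surjective (pPrimeCore 2 G)
  have := Normal.map ‹M.Normal› _ f
  have := Normal.map ‹V.Normal› _ f
  rw [← map_mk'_eq_bot_iff, map_commutator, KK_map]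
  refine (c.map f).r0 pPrimeCore_quotient_pPrimeCore (V := V.map (mk' _)) ⟨hV.pg.map _, ?_⟩ (by rw [← map_commutator, hM])
    (commutator_eq_bot_iff_le_centralizer.1 (by
      rw [← map_commutator, commutator_eq_bot_iff_le_centralizer.2 h1, Subgroup.map_bot])) ?_
  · rintro _ ⟨x, hx, rfl⟩
    exact ⟨x, hV.mem x hx, rfl⟩
  · rintro _ ⟨x, hx, rfl⟩ h
    rw [← mem_comap, comap_map_eq, ker_mk'] at h
    exact mem_map_of_mem _ (h2 x hx (mem_of_two_sup (odd_card_oddCore G) (c.two x hx) h))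

theorem r2 (hV : CS C V) (h : ∀ x ∈ C, x ∈ 𝐂(V) → x ∈ V) : ⁅pf 𝐂(V), KK C 𝐍(V)⁆ ≤ 𝐎₀(𝐍(V)) := by
  have h1 := (pf_le 𝐂(V)).trans (cent_le_norm V)
  have := normal_subgroupOf_of_le_normalizer (norm_pf (normalizer_le_normalizer_centralizer V))
  have := map_mono (f := (𝐍(V)).subtype) ((c.comap (𝐍(V)).subtype_injective).r1 (V := V.subgroupOf 𝐍(V))
    (M := (pf 𝐂(V)).subgroupOf 𝐍(V)) ⟨Core.isPGroup_subgroupOf hV.pg _, fun x hx => hV.mem x hx⟩
    (by rw [← subgroupOf_commutator h1 h1, pf_perf]) (by rw [centralizer_subgroupOf le_normalizer]; exact comap_mono (pf_le _))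
    fun x hx e => h x hx (pf_le _ e))
  rwa [map_commutator, KK_sub, map_subgroupOf_eq_of_le h1, map_pPrimeCore_subtype Nat.prime_two] at this

theorem r3 (hT : MX C T ⊤) (hV : CS C V) (h : ∀ x ∈ C, x ∈ 𝐂(V) → x ∈ V) (h1 : V ≤ T) : pf 𝐂(V) ≤ 𝐎₀(𝐍(V)) ⊔ pf 𝐂(T) := by
  have := fact_two
  induction V using WellFoundedGT.induction with | _ V ih =>
  rcases h1.eq_or_lt with rfl | h2
  · exact le_sup_right
  have h3 := lt_inf_normalizer_of_lt hT.pg h2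
  have h4 : 𝐂(T ⊓ 𝐍(V)) ≤ 𝐂(V) := centralizer_le h3.le
  have h5 := (pf_le 𝐂(V)).trans (cent_le_norm V)
  have h6 : pf 𝐂(V) ≤ 𝐎₀(𝐍(V)) ⊔ pf 𝐂(T ⊓ 𝐍(V)) := (le_sup_pf (pf_perf _) (nO inf_le_left) (le_core_sup_cent
    (hT.pg.to_le inf_le_left) inf_le_right h5 ((commutator_mono le_rfl (le_KK (hT.mono inf_le_left).mem inf_le_right)).trans
      (c.r2 hV h)))).trans (sup_le_sup_left (pf_mono inf_le_right) _)
  have h7 : pf 𝐂(T) ≤ pf 𝐂(T ⊓ 𝐍(V)) := pf_mono (centralizer_le inf_le_left)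
  have h8 := (pf_le _).trans (cent_le_norm (T ⊓ 𝐍(V)))
  refine h6.trans (sup_le le_sup_left ((le_inf ((ih _ h3 (hT.mono inf_le_left) (fun x hx e => h3.le (h x hx (h4 e)))
    inf_le_left).trans (sup_comm _ _).le) le_rfl).trans ?_))
  rw [sup_inf_of_le_normalizer h7 (nO (h7.trans h8)), sup_comm]
  refine sup_le_sup_right ((le_inf le_rfl (inf_le_right.trans ((pf_mono h4).trans le_sup_right))).trans (inf_le_core'
    (X := 𝐎₀(𝐍(V)) ⊔ pf 𝐂(V)) (sup_le (piCoreOf_le' _ _) h5) (le_normalizer_sup (nO le_rfl) (norm_pf (normalizer_le_normalizer_centralizer V)))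
    (sup_le le_sup_left h6) ((pf_mono h4).trans h5) (odd_card_of_le inf_le_left (odd_core _))
    (inf_le_right.trans ((pf_mono h4).trans h5)) (le_normalizer_inf (nO h8) le_normalizer))) _

end SC

/-- the perfect part of the centralizer of `KK C H` modulo the core -/
def XD (C : Set G) (H : Subgroup G) : Subgroup G := 𝐎₀(H) ⊔ pf (H ⊓ centQuo 𝐎₀(H) (KK C H))

theorem XD_le (C : Set G) (H : Subgroup G) : XD C H ≤ H := sup_le (piCoreOf_le' _ _) ((pf_le _).trans inf_le_left)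

theorem comm_XD (C : Set G) (H : Subgroup G) : ⁅KK C H, XD C H⁆ ≤ 𝐎₀(H) :=
  comm_sup_le' (comm_le_right (nO (KK_le C H))) (commutator_le_of_le_centQuo (nO (KK_le C H)) ((pf_le _).trans inf_le_right))
    le_normalizer (nO ((pf_le _).trans inf_le_left))

theorem SC.norm_XD (c : SC C) (H : Subgroup G) : H ≤ 𝐍(XD C H) :=
  le_normalizer_sup (nO le_rfl) (norm_pf (le_normalizer_inf le_normalizer (le_norm_centQuo (nO le_rfl) (c.nK H))))

/-- the local hypothesis -/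
def LH (C : Set G) : Prop := ∀ D V, CS C D → D ≠ ⊥ → MX C V 𝐍(D) → ⁅pf 𝐂(V), KK C 𝐍(D)⁆ ≤ 𝐎₀(𝐍(D))

namespace LH
variable (h : LH C) (c : SC C)
include h c

theorem q1 (hD : CS C D) (h0 : D ≠ ⊥) (hV : MX C V 𝐍(D)) (h1 : D ≤ V) (hT : MX C T ⊤) (h2 : V ≤ T) :
    XD C 𝐍(D) = 𝐎₀(𝐍(D)) ⊔ pf 𝐂(T) := by
  have h3 : 𝐂(V) ≤ 𝐍(D) := (centralizer_le h1).trans (cent_le_norm D)
  have h4 := (pf_le _).trans h3
  have h5 : pf 𝐂(V) ≤ XD C 𝐍(D) := (le_pf (le_inf h4 (le_centQuo (nO (KK_le _ _)) (nO h4)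
    (commutator_comm (pf 𝐂(V)) _ ▸ h D V hD h0 hV))) (pf_perf _)).trans le_sup_right
  have h6 : XD C 𝐍(D) ≤ 𝐎₀(𝐍(D)) ⊔ pf 𝐂(V) := sup_le le_sup_left ((le_sup_pf (pf_perf _) (nO inf_le_left) (le_core_sup_cent hV.pg hV.le
    ((pf_le _).trans inf_le_left) (commutator_comm V _ ▸ (commutator_mono (le_KK hV.mem hV.le) le_sup_right).trans
      (comm_XD C _)))).trans (sup_le_sup_left (pf_mono inf_le_right) _))
  have h7 : pf 𝐂(T) ≤ pf 𝐂(V) := pf_mono (centralizer_le h2)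
  have h8 := (pf_le _).trans (cent_le_norm V)
  refine le_antisymm (h6.trans (sup_le le_sup_left ((le_inf ((c.r3 hT hV.toCS (fun x hx e => c.mem_of_norm hV hx (h3 e)
    (cent_le_norm V e)) h2).trans (sup_comm _ _).le) le_rfl).trans ?_))) (sup_le le_sup_left (h7.trans h5))
  rw [sup_inf_of_le_normalizer h7 (nO (h7.trans h8)), sup_comm]
  exact sup_le_sup_right ((le_inf le_rfl (inf_le_right.trans h5)).trans (inf_le_core' (XD_le _ _) (c.norm_XD _) h6 h4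
    (odd_card_of_le inf_le_left (odd_core _)) (inf_le_right.trans h4) (le_normalizer_inf (nO h8) le_normalizer))) _

theorem q2 (hD : CS C D) (h0 : D ≠ ⊥) (hT : MX C T ⊤) (h1 : D ≤ T) : XD C 𝐍(D) = 𝐎₀(𝐍(D)) ⊔ pf 𝐂(T) := by
  have := fact_two
  induction D using WellFoundedGT.induction generalizing T with | _ D ih =>
  have hU := hT.mono (inf_le_left (b := 𝐍(D)))
  obtain ⟨V, hV, h2⟩ := c.exists_mx hU inf_le_right
  obtain ⟨T', hT', h3⟩ := c.exists_mx hV.toCS le_top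
  have h4 : D ≤ T ⊓ 𝐍(D) := le_inf h1 le_normalizer
  have e := h.q1 c hD h0 hV (h4.trans h2) hT' h3
  rcases h1.eq_or_lt with rfl | h5
  · rw [e, ← hT.eq_of_le hT' (h4.trans (h2.trans h3))]
  have h5 := lt_inf_normalizer_of_lt hT.pg h5
  have e1 := (ih _ h5 hU (ne_bot_of_gt h5) hT inf_le_left).symm.trans (ih _ h5 hU (ne_bot_of_gt h5) hT' (h2.trans h3))
  have h6 : 𝐂(T ⊓ 𝐍(D)) ≤ 𝐍(D) := (centralizer_le h4).trans (cent_le_norm D)
  have h7 := (core_norm_le hU.pg).trans h6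
  have k : ∀ W, T ⊓ 𝐍(D) ≤ W → pf 𝐂(W) ≤ 𝐂(T ⊓ 𝐍(D)) := fun W hW => (pf_le _).trans (centralizer_le hW)
  have h9 : pf 𝐂(T) ≤ XD C 𝐍(D) := le_of_sup_solv (pf_perf _) (h7.trans (c.norm_XD _)) (le_sup_right.trans (e1.le.trans
    (sup_le le_sup_right ((le_sup_right.trans e.ge).trans le_sup_left)))) (solvable_of_odd (odd_core _))
  refine le_antisymm (e.le.trans (sup_le le_sup_left ((le_inf (le_sup_right.trans (e1.ge.trans (sup_comm _ _).le))
    (le_sup_right.trans e.ge)).trans ?_))) (sup_le le_sup_left h9)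
  rw [sup_inf_of_le_normalizer h9 (nO ((k T inf_le_left).trans (cent_le_norm _))), sup_comm]
  exact sup_le_sup_right (inf_le_core' (XD_le _ _) (c.norm_XD _) e.le ((k T' (h2.trans h3)).trans h6) (odd_core _) h7
    (nO ((k T' (h2.trans h3)).trans (cent_le_norm _)))) _

theorem dagger (hT : MX C T ⊤) (hT' : MX C T' ⊤) (hy : Two y) (h1 : y ∈ pf 𝐂(T)) (h2 : y ∈ 𝐍(T')) : y ∈ pf 𝐂(T') := by
  have := fact_two
  by_cases h0 : T' = ⊥
  · rwa [hT'.eq_of_le hT (h0.le.trans bot_le)]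
  have hD := hT'.mono (inf_le_left (b := 𝐂(zpowers y)))
  have h3 : T ≤ 𝐂(zpowers y) := le_cent_symm (zpowers_le.2 (pf_le _ h1))
  obtain ⟨g, g1, g2⟩ := (c.mx_of_le hT h3 le_top).cn _ hD inf_le_right
  have h4 := c.mx_cj hT g⁻¹
  have h5 : y ∈ pf 𝐂(cj g⁻¹ T) := by
    rw [← cj_centralizer]
    refine cj_pf_le _ _ (mem_cj.2 ?_)
    rwa [inv_inv, (mem_centS.1 g1 y (mem_zpowers y)).eq, mul_inv_cancel_right]
  have h6 : T' ⊓ 𝐂(zpowers y) ≤ cj g⁻¹ T := (cj_inv_cj g _).ge.trans (cj_mono _ g2)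
  have h7 := h.q2 c hD (inf_centralizer_ne_bot_of_isPGroup hT'.pg hy.isPGroup (zpowers_le.2 h2) h0) h4 h6
  rcases (inf_le_left (a := T') (b := 𝐂(zpowers y))).eq_or_lt with e | e
  · rwa [hT'.eq_of_le h4 (e.ge.trans h6)]
  refine absurd (le_inf inf_le_left (commutator_eq_bot_iff_le_centralizer.1 (le_bot_iff.1 ((le_inf ((commutator_mono inf_le_left
    le_rfl).trans (comm_le_left (zpowers_le.2 h2))) ((commutator_mono (le_KK (hT'.mono inf_le_left).mem inf_le_right)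
      (zpowers_le.2 (h7.ge (mem_sup_right h5)))).trans (comm_XD _ _))).trans
    (disjoint_of_coprime_natCard (cop_pgroup hT'.pg (odd_core _))).le_bot)))) (lt_inf_normalizer_of_lt hT'.pg e).not_ge

end LH

end Cfsg.Lib.SCl
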