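import Cfsg.Agent.Lib.SCl.Prod
import Cfsg.Agent.Lib.Fus.CI2
import Cfsg.Agent.Lib.Fus3.SimpleCrit
import Cfsg.Agent.Lib.Fus2.GroupNormal
import Cfsg.Agent.Lib.GW.Final
import Cfsg.Agent.Lib.Exc.Chz

/-! The `2`-fusion system of a simple group that is not a Goldschmidt group has trivial core; Sylow `2`-subgroups with centre
of index four. -/

set_option autoImplicit false
set_option linter.unusedSectionVars false

namespace Cfsg.Lib.SCl
open Subgroup Cfsg.Lib.Core Cfsg.Lib.BG1 Cfsg.Lib.Invol Cfsg.Lib.Layer Cfsg.Lib.Gold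
open Cfsg.Lib.Amalg hiding le_cent_symm op_top
open Cfsg.Lib.GW hiding Ctx
open scoped Cfsg.Lib.Wal commutatorElement
open Cfsg.Lib.BS (RO R2 Kg_le)
open Cfsg.FusionSystem (centralizerIn)
open QuotientGroup (mk' mk'_surjective ker_mk')

universe u

variable {G : Type u} [Group G] [Finite G] {S H Q : Subgroup G} {t x y z : G}

theorem fus_core [IsSimpleGroup G] (hS : Syl 2 S ⊤) (hn : ¬ IsMulCommutative S) (nse : ∀ H : Subgroup G, ¬ IsStronglyEmbedded H) :
    (groupFusionSystem S).core = ⊥ := by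
  by_contra h
  have h1 := Fus.normal_core (groupFusionSystem S)
  have h2 := Fus.sc_of_normal (Fus.normal_centralizerIn h1 h1)
  obtain ⟨z, z0, z1, z2⟩ := Fus.exists_central_mem hS.isPGroup h1.1 (Fus.normal_le_normalizer h1) h
  exact (gld G hS.toSylowTop (centralizerIn _ _) (fun e => z1 (e.le ⟨z0, fun s hs => z2 s (h1.1 hs)⟩))
    ⟨⟨fun a b => Subtype.ext (b.2.2 a a.2.1)⟩⟩ ⟨h2.1, fun x hx g e => Fus.sc_group_conj h2 hx e⟩).elim hn fun ⟨H, e⟩ => nse H e

theorem fus_hyp (hG : ⁅(⊤ : Subgroup G), (⊤ : Subgroup G)⁆ = ⊤) (hS : Syl 2 S ⊤) : (groupFusionSystem S).hyperfocalSubgroup 2 = S := by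
  rw [Fus2.hyp_group hS, ← res_top, inf_eq_left]; exact le_top.trans (le_res_of_perfect hG le_rfl)

/-- in a simple group with a strongly embedded subgroup no involution is fixed by a Sylow normalizer -/
theorem se_moves [IsSimpleGroup G] (hG : ¬ IsMulCommutative G) (hS : Syl 2 S ⊤) (hH : IsStronglyEmbedded H) (hz : z ∈ S)
    (z2 : orderOf z = 2) : ∃ g ∈ 𝐍(S), g * z * g⁻¹ ≠ z := by
  obtain ⟨H, t, r, r2⟩ : ∃ (H : Subgroup G) (t : G), RO H S t ∧ R2 (⊤ : Subgroup G) := by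
    obtain ⟨Q, t, h, r2, -⟩ := ro_of_se hH (core_of_simple hG)
    obtain ⟨P, hP⟩ := h.exists_sylow_le
    obtain ⟨g, -, rfl⟩ := ((syl_top P).eq_of_le Q hP le_top (h.good' r2).two ▸ syl_top P : Syl 2 Q ⊤).exists_conj hS
    exact ⟨_, _, h.map (MulAut.conj g).toMonoidHom (MulAut.conj g).surjective
      (((MonoidHom.ker_eq_bot_iff _).2 (MulAut.conj g).injective).le.trans bot_le), r2⟩
  obtain ⟨x, hx, y, hy, x2, y2, e, -⟩ := r.r2_Q r2
  obtain ⟨a, ha, e1⟩ := r.exists_K' z2 (r.le hz) x2 (r.le hx)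
  obtain ⟨b, hb, e2⟩ := r.exists_K' z2 (r.le hz) y2 (r.le hy)
  by_contra! k
  exact e (by rw [← e1, ← e2, k a (r.norm (Kg_le _ _ ha).1), k b (r.norm (Kg_le _ _ hb).1)])

theorem card_comm_two (hS : IsPGroup 2 S) (hn : ¬ IsMulCommutative S) (hZ : (center S).index ≤ 2 ^ 2) :
    Nat.card (⁅S, S⁆ : Subgroup G) = 2 := by
  rw [← (Fus.center_index_sq hS hZ hn).2.2.1, ← card_map_of_injective S.subtype_injective, map_subtype_commutator]

theorem d8_of_index [IsSimpleGroup G] (hG : ¬ IsMulCommutative G) (hS : Syl 2 S ⊤) (hn : ¬ IsMulCommutative S)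
    (hZ : (center S).index ≤ 2 ^ 2) : Nonempty (S ≃* DihedralGroup 4) := by
  have h := card_comm_two hS.isPGroup hn hZ
  refine (Fus.Sat.extraspecial_of_center_index ⟨hS.isPGroup, Fus2.isSaturated_group' hS⟩ (fun e => by simp [e] at h) (fus_core hS hn fun H hH => ?_)
    (fus_hyp (Small.commutator_eq_top_of_simple hG) hS) hZ).2.2.2 rfl
  obtain ⟨z, hz, z1⟩ := (⁅S, S⁆ : Subgroup G).bot_or_exists_ne_one.resolve_left fun e => by simp [e] at h
  obtain ⟨g, hg, e⟩ := se_moves hG hS hH (commutator_le_self S hz) (two_of_mul_self (by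
    rw [← sq, ← h]; exact congrArg Subtype.val (pow_card_eq_one' (x := (⟨z, hz⟩ : (⁅S, S⁆ : Subgroup G))))) z1)
  exact e (Fus.eq_of_card_two h hz z1 (conj_mem_norm (le_norm_der le_rfl hg) hz) (by simpa using z1))

/-- conjugates modulo the centre of an element centralizing a Sylow subgroup -/
theorem comm_of_cen (hS : Syl 2 S ⊤) (hz : z ∈ 𝐂(S)) (e : IsConj (mk' (center G) z) (mk' _ x)) (hy : Two y)
    (h : ⁅y, x⁆ ∈ center G) : Commute y x := by
  obtain ⟨g, e⟩ := isConj_iff.1 e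
  obtain ⟨g, rfl⟩ := mk'_surjective _ g
  have k : ∀ {a b : G}, mk' (center G) a = mk' _ b → ∀ s, Commute s a → Commute s b := fun {a b} e s hs => by
    obtain ⟨c, hc, rfl⟩ := (QuotientGroup.mk'_eq_mk' _).1 e
    exact hs.mul_right (mem_center_iff.1 hc s)
  have h1 : cj g S ≤ 𝐂[g * z * g⁻¹] := by
    rintro _ ⟨s, hs, rfl⟩
    exact mem_cent.2 ((show Commute s z from hz s hs).map (MulAut.conj g))
  have h2 : ∀ s ∈ cj g S, Commute s x := fun s hs => k (a := g * z * g⁻¹) (by simpa using e) s (mem_cent.1 (h1 hs))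
  obtain ⟨a, ha, h3⟩ := ((hS.conj_top g).of_le (K := (𝐂[mk' (center G) x]).comap (mk' _))
    (fun s hs => mem_cent.2 ((h2 s hs).map _)) le_top).exists_conj_le hy.isPGroup (zpowers_le.2 (mem_cent.2
      (commutatorElement_eq_one_iff_commute.1 (by rw [← map_commutatorElement]; exact (QuotientGroup.eq_one_iff _).2 h))))
  refine k (a := a⁻¹ * x * a) (by simp only [map_mul, map_inv]; rw [mul_assoc, ← (mem_cent.1 ha).eq, inv_mul_cancel_left]) y ?_
  simpa [mul_assoc] using (h2 _ (h3 (conj_mem_cj a (mem_zpowers y)))).map (MulAut.conj a⁻¹)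

end Cfsg.Lib.SCl
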